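import Groth.Agent.Lib.SitePAdj16.PartialAdj
import Groth.Agent.Lib.RFPlus.Acyclic
import Mathlib.CategoryTheory.Abelian.Injective.Extend

/-! The derived functor on objects in degree zero computes the classical derived functors. -/

set_option autoImplicit false
set_option linter.style.haveILetI false
set_option linter.unusedSectionVars false
set_option backward.isDefEq.respectTransparency false
set_option backward.isDefEq.respectTransparency.types false

universe w w₁ w' v v' u u'

open CategoryTheory CategoryTheory.Limits HomologicalComplex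

namespace Groth.Agent.SitePAdj

variable {D : Type u'} [Category.{v'} D] [Abelian D] [HasExt.{w'} D] [HasDerivedCategory.{w₁} D]
  {A : Type u} [Category.{v} A] [Abelian A] [EnoughInjectives A] [HasDerivedCategory.{w} A]
  {R : A ⥤ D} [R.Additive] {RF : DerivedCategory A ⥤ DerivedCategory D}
  (α : R.mapHomotopyCategory (ComplexShape.up ℤ) ⋙ DerivedCategory.Qh ⟶ DerivedCategory.Qh ⋙ RF)
  [RF.IsRightDerivedFunctor α (HomotopyCategory.quasiIso A (ComplexShape.up ℤ))]
  (hk : KInjLib.EnoughKInj A)

include α hk in
/-- `H^p (RF X) = R^p X`. -/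
theorem nonempty_homology_single_iso (X : A) (p : ℕ) :
    Nonempty ((DerivedCategory.homologyFunctor D (p : ℤ)).obj (RF.obj ((DerivedCategory.singleFunctor A 0).obj X)) ≅
      (R.rightDerived p).obj X) := by
  let I := injectiveResolution X
  haveI : I.cochainComplex.IsKInjective := CochainComplex.isKInjective_of_injective I.cochainComplex 0
  haveI := isIso_αQ α hk I.cochainComplex
  haveI : IsIso (DerivedCategory.Q.map I.ι') := (DerivedCategory.isIso_Q_map_iff_quasiIso A I.ι').2 inferInstance
  exact ⟨(DerivedCategory.homologyFunctor D (p : ℤ)).mapIso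
      (RF.mapIso (asIso (DerivedCategory.Q.map I.ι')) ≪≫ (asIso ((αQ α).app I.cochainComplex)).symm) ≪≫
    (DerivedCategory.homologyFunctorFactors D (p : ℤ)).app _ ≪≫ RFPlus.homologyMapResolutionIso R I p⟩

end Groth.Agent.SitePAdj
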