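import Groth.Agent.Lib.SitePAdj16.PartialAdj
import Groth.Agent.Lib.SiteRlim16.Local
import Groth.Agent.Lib.SiteRlim16.Rlim
import Groth.Agent.Lib.SiteRlim16.RF

/-! Left exactness and continuity of a derived right adjoint. -/

set_option autoImplicit false
set_option linter.style.haveILetI false
set_option linter.unusedSectionVars false
set_option backward.isDefEq.respectTransparency false
set_option backward.isDefEq.respectTransparency.types false

universe w w₁ w' v v' u u' v₀ u₀

open CategoryTheory CategoryTheory.Limits Abelian CategoryTheory.Pretriangulated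
open DerivedCategory.TStructure

namespace Groth.Agent.SiteRlim

variable {A : Type u} [Category.{v} A] [Abelian A] [HasDerivedCategory.{w} A]
  {C : Type u₀} [Category.{v₀} C] {J : GrothendieckTopology C} {G : C ⥤ A} (hG : LocalGen J G)

local notation "HH" => DerivedCategory.homologyFunctor A
local notation "SF" => DerivedCategory.singleFunctor A

include hG in
/-- Classes over the generators detect isomorphisms. -/
theorem isIso_of_bijective {K K' : DerivedCategory A} (φ : K ⟶ K')
    (h : ∀ (U : C) (m : ℤ), Function.Bijective fun f : (SF m).obj (G.obj U) ⟶ K => f ≫ φ) : IsIso φ := by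
  rw [DerivedCategory.isIso_iff]
  intro m
  haveI : Mono ((HH m).map φ) := by
    refine Preadditive.mono_of_cancel_zero _ fun {Z} z hz => hG.gen z fun U ψ => ?_
    obtain ⟨S, hS, hS'⟩ := locally_exists_θ hG (ψ ≫ z)
    refine hG.sep _ S hS fun {V} g hg => ?_
    obtain ⟨f, hf⟩ := hS' g hg
    obtain ⟨T, hT, hT'⟩ := locally_zero_of_θ hG (f ≫ φ) (by
      rw [θ_comp, hf, Category.assoc, Category.assoc, hz, comp_zero, comp_zero])
    refine hG.sep _ T hT fun {W} g' hg' => ?_
    have h0 : (SF m).map (G.map g') ≫ f = 0 := (h W m).1 (by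
      change (_ ≫ f) ≫ φ = 0 ≫ φ
      rw [Category.assoc, hT' g' hg', zero_comp])
    rw [← hf, ← θ_pre, h0]
    simp [θ]
  haveI : Epi ((HH m).map φ) := by
    refine Preadditive.epi_of_cancel_zero _ fun {Z} z hz => hG.gen z fun U ψ => ?_
    obtain ⟨S, hS, hS'⟩ := locally_exists_θ hG ψ
    refine hG.sep _ S hS fun {V} g hg => ?_
    obtain ⟨f', hf'⟩ := hS' g hg
    obtain ⟨f, hf⟩ := (h V m).2 f'
    rw [← Category.assoc, ← hf', ← show f ≫ φ = f' from hf, θ_comp, Category.assoc, hz, comp_zero]
  exact isIso_of_mono_of_epi _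

include hG in
/-- Left bounds are detected by classes over the generators. -/
theorem isGE_of_classes (K : DerivedCategory A) (a : ℤ)
    (h : ∀ (U : C) (m : ℤ), m < a → Subsingleton ((SF m).obj (G.obj U) ⟶ K)) : K.IsGE a := by
  rw [DerivedCategory.isGE_iff]
  intro m hm
  rw [IsZero.iff_id_eq_zero]
  refine hG.gen _ fun U ψ => ?_
  rw [Category.comp_id]
  obtain ⟨S, hS, hS'⟩ := locally_exists_θ hG ψ
  refine hG.sep _ S hS fun {V} g hg => ?_
  obtain ⟨f, hf⟩ := hS' g hg
  rw [← hf, (h V m hm).elim f 0]
  simp [θ]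

end Groth.Agent.SiteRlim

namespace Groth.Agent.SitePAdj

variable {D : Type u'} [Category.{v'} D] [Abelian D] [HasExt.{w'} D] [HasDerivedCategory.{w₁} D]
  {A : Type u} [Category.{v} A] [Abelian A] [EnoughInjectives A] [HasDerivedCategory.{w} A]
  {R : A ⥤ D} {L : D ⥤ A} [R.Additive] [L.Additive] (adj : L ⊣ R)
  {RF : DerivedCategory A ⥤ DerivedCategory D}
  (α : R.mapHomotopyCategory (ComplexShape.up ℤ) ⋙ DerivedCategory.Qh ⟶ DerivedCategory.Qh ⋙ RF)
  [RF.IsRightDerivedFunctor α (HomotopyCategory.quasiIso A (ComplexShape.up ℤ))]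
  (hk : KInjLib.EnoughKInj A) (hql : _root_.PCoh.IsQuasiLiftable (Adapted.{w'} R : ObjectProperty D))

include adj α hk hql

theorem subsingleton_hom_obj {X : D} (hX : Adapted.{w'} R X) (m : ℤ) (K : DerivedCategory A)
    (h : Subsingleton ((DerivedCategory.singleFunctor A m).obj (L.obj X) ⟶ K)) :
    Subsingleton ((DerivedCategory.singleFunctor D m).obj X ⟶ RF.obj K) :=
  haveI := h
  (bijective_transpose adj α hk hql hX m K).2.subsingleton

variable {C : Type u₀} [Category.{v₀} C] {J : GrothendieckTopology C} {G : C ⥤ D}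
  (hG : SiteRlim.LocalGen J G) (hX : ∀ U, Adapted.{w'} R (G.obj U))

include hG hX

theorem isGE_obj (K : DerivedCategory A) (a : ℤ) [K.IsGE a] : (RF.obj K).IsGE a :=
  SiteRlim.isGE_of_classes hG _ a fun U m hm => subsingleton_hom_obj adj α hk hql (hX U) m K <|
    subsingleton_of_forall_eq 0 fun f => by
      haveI : DerivedCategory.IsLE ((DerivedCategory.singleFunctor A m).obj (L.obj (G.obj U))) m := inferInstance
      exact t.zero_of_isLE_of_isGE f m a hm inferInstance inferInstance

/-- The derived right adjoint preserves products. -/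
theorem isIso_piComparison {ι : Type*} (E : ι → DerivedCategory A) [HasProduct E]
    [HasProduct fun i => RF.obj (E i)] : IsIso (piComparison RF E) := by
  refine SiteRlim.isIso_of_bijective hG _ fun U m => ⟨fun f f' hf => ?_, fun f => ?_⟩
  · obtain ⟨g, rfl⟩ := (bijective_transpose adj α hk hql (hX U) m _).2 f
    obtain ⟨g', rfl⟩ := (bijective_transpose adj α hk hql (hX U) m _).2 f'
    congr 1
    refine Pi.hom_ext _ _ fun i => (bijective_transpose adj α hk hql (hX U) m _).1 ?_
    have := congrArg (· ≫ Pi.π (fun i => RF.obj (E i)) i) hf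
    simp only [Category.assoc, piComparison_comp_π] at this
    rw [transpose_comp, transpose_comp, this]
  · choose g hg using fun i => (bijective_transpose adj α hk hql (hX U) m (E i)).2
      (f ≫ Pi.π (fun i => RF.obj (E i)) i)
    refine ⟨transpose adj α (Pi.lift g), Pi.hom_ext _ _ fun i => ?_⟩
    simp only [Category.assoc, piComparison_comp_π]
    rw [← transpose_comp, Pi.lift_π, hg]

/-- The derived right adjoint preserves derived limits. -/
theorem isRlimVia_obj (E : ℕ → DerivedCategory A) (t : ∀ n, E (n + 1) ⟶ E n) [HasProduct E]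
    (K : DerivedCategory A) (a : ∀ n, K ⟶ E n) (hK : CohCx.IsRlimVia E t K a)
    [HasProduct fun n => RF.obj (E n)] :
    CohCx.IsRlimVia (fun n => RF.obj (E n)) (fun n => RF.map (t n)) (RF.obj K) (fun n => RF.map (a n)) := by
  obtain ⟨c, hc⟩ := hK
  obtain ⟨_, _⟩ := SiteRlim.exists_commShift_isTriangulated_map α hk
  haveI := isIso_piComparison adj α hk hql hG hX E
  have hd := RF.map_distinguished _ hc
  refine ⟨inv (piComparison RF E) ≫ RF.map c ≫ (RF.commShiftIso (1 : ℤ)).hom.app K, ?_⟩
  refine isomorphic_distinguished _ hd _ (Triangle.isoMk _ _ (Iso.refl _) (asIso (piComparison RF E)).symm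
    (asIso (piComparison RF E)).symm ?_ ?_ ?_)
  · simp only [Triangle.mk_mor₁, Functor.mapTriangle_obj, Iso.refl_hom, Iso.symm_hom, asIso_inv]
    rw [IsIso.comp_inv_eq, Category.id_comp]
    exact Pi.hom_ext _ _ fun n => by simp [Functor.mapTriangle, ← Functor.map_comp]
  · simp only [Triangle.mk_mor₂, Functor.mapTriangle_obj, Iso.symm_hom, asIso_inv]
    rw [IsIso.comp_inv_eq, Category.assoc, IsIso.eq_inv_comp]
    exact Pi.hom_ext _ _ fun n => by simp [Functor.mapTriangle, Functor.map_sub, Functor.map_comp, piComparison_comp_π_assoc]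
  · simp [Functor.mapTriangle]; rfl

end Groth.Agent.SitePAdj
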