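import Groth.Agent.Lib.SitePAdj16.Consequences
import Groth.Agent.Lib.SiteRlim16.Instances
import Groth.Agent.S6153
import Groth.Prelude.Def_SiteCmp

/-! The derived direct image of a morphism of ringed sites on classes over the free modules. -/

set_option autoImplicit false
set_option linter.style.haveILetI false
set_option linter.unusedSectionVars false
set_option backward.isDefEq.respectTransparency false
set_option backward.isDefEq.respectTransparency.types false

universe u

open CategoryTheory CategoryTheory.Limits Opposite Abelian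

namespace Groth.Agent.SitePAdj

attribute [local instance] HasDerivedCategory.standard

variable {C : Type u} [SmallCategory C] {J : GrothendieckTopology C} {O_C : Sheaf J CommRingCat.{u}}
  {D : Type u} [SmallCategory D] {K : GrothendieckTopology D} {O_D : Sheaf K CommRingCat.{u}}
  (f : ModSite.RMor O_C O_D)

/-- The free modules are adapted to direct image. -/
theorem adapted_freeOn [HasExt.{u} (ModSite.Mod O_D)] (Y : D) :
    Adapted.{u} f.push (ModSite.freeOn O_D Y) := fun I hI k =>
  SiteRlim.subsingleton_ext_freeOn O_D Y _ (k + 1)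
    (SiteCoh.subsingleton_HU_push f.fn Y k (ModSite.toAb I) fun U q =>
      SiteCoh.subsingleton_HU_of_totallyAcyclic (SiteCoh.isTotallyAcyclic_injective _ I) U q)

/-- Every module is a quotient of a sum of free modules. -/
theorem isQuasiLiftable_adapted [HasExt.{u} (ModSite.Mod O_D)] :
    _root_.PCoh.IsQuasiLiftable (Adapted.{u} f.push : ObjectProperty (ModSite.Mod O_D)) := by
  intro E F v hv _
  let X : (Σ U : D, E.val.obj (op U)) → ModSite.Mod O_D := fun p => ModSite.freeOn O_D p.1
  let e : ∐ X ⟶ E := Sigma.desc fun p => (ModFlat16.freeOnHom O_D p.1 E).symm p.2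
  haveI : Epi e := by
    refine Preadditive.epi_of_cancel_zero _ fun {Z} z hz => (SiteRlim.localGen_genMod O_D).gen z fun U φ => ?_
    have h := congrArg (Sigma.ι X ⟨U, ModFlat16.freeOnHom O_D U E φ⟩ ≫ ·) hz
    simpa [e, X] using h
  exact ⟨∐ X, e, adapted_sigma f.push X fun p => adapted_freeOn f p.1, epi_comp e v⟩

variable [SiteCmp.HasRpushD f]

/-- The derived unit of the direct image. -/
noncomputable abbrev rpushUnit :
    f.push.mapHomotopyCategory (ComplexShape.up ℤ) ⋙ DerivedCategory.Qh ⟶ DerivedCategory.Qh ⋙ SiteCmp.RpushD f :=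
  (SiteCmp.pushKh f).totalRightDerivedUnit DerivedCategory.Qh
    (HomotopyCategory.quasiIso (ModSite.Mod O_C) (ComplexShape.up ℤ))

theorem exists_commShift_isTriangulated_rpushD :
    ∃ _ : (SiteCmp.RpushD f).CommShift ℤ, (SiteCmp.RpushD f).IsTriangulated :=
  SiteRlim.exists_commShift_isTriangulated_map (rpushUnit f) KInjLib.enoughKInj_of_grothendieck

/-- Classes of `Rf_* K` on `Y` vanish with those of `K` on the inverse image of `Y`. -/
theorem subsingleton_hom_rpushD (Y : D) (m : ℤ) (X : DerivedCategory (ModSite.Mod O_C))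
    (h : Subsingleton ((DerivedCategory.singleFunctor _ m).obj (ModSite.freeOn O_C (f.fn.obj Y)) ⟶ X)) :
    Subsingleton ((DerivedCategory.singleFunctor _ m).obj (ModSite.freeOn O_D Y) ⟶ (SiteCmp.RpushD f).obj X) := by
  obtain ⟨e⟩ := Groth.Agent.S6153.result f Y
  exact subsingleton_hom_obj f.adj (rpushUnit f) KInjLib.enoughKInj_of_grothendieck (isQuasiLiftable_adapted f)
    (adapted_freeOn f Y) m X (((DerivedCategory.singleFunctor _ m).mapIso e).homCongr (Iso.refl X) |>.subsingleton_congr.2 h)

/-- `Rf_*` is left t-exact. -/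
theorem isGE_rpushD (X : DerivedCategory (ModSite.Mod O_C)) (a : ℤ) [X.IsGE a] :
    ((SiteCmp.RpushD f).obj X).IsGE a :=
  isGE_obj f.adj (rpushUnit f) KInjLib.enoughKInj_of_grothendieck (isQuasiLiftable_adapted f)
    (SiteRlim.localGen_genMod O_D) (adapted_freeOn f) X a

/-- `Rf_*` commutes with derived limits. -/
theorem isRlimVia_rpushD (E : ℕ → DerivedCategory (ModSite.Mod O_C)) (t : ∀ n, E (n + 1) ⟶ E n) [HasProduct E]
    (L : DerivedCategory (ModSite.Mod O_C)) (a : ∀ n, L ⟶ E n) (hL : CohCx.IsRlimVia E t L a)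
    [HasProduct fun n => (SiteCmp.RpushD f).obj (E n)] :
    CohCx.IsRlimVia (fun n => (SiteCmp.RpushD f).obj (E n)) (fun n => (SiteCmp.RpushD f).map (t n))
      ((SiteCmp.RpushD f).obj L) (fun n => (SiteCmp.RpushD f).map (a n)) :=
  isRlimVia_obj f.adj (rpushUnit f) KInjLib.enoughKInj_of_grothendieck (isQuasiLiftable_adapted f)
    (SiteRlim.localGen_genMod O_D) (adapted_freeOn f) E t L a hL

end Groth.Agent.SitePAdj
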