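import Groth.Agent.Lib.SitePAdj16.Classes
import Mathlib.Algebra.Homology.Single

/-! A derived right adjoint represents classes over adapted objects. -/

set_option autoImplicit false
set_option linter.style.haveILetI false
set_option linter.unusedSectionVars false
set_option backward.isDefEq.respectTransparency false
set_option backward.isDefEq.respectTransparency.types false

universe w w₁ w' v v' u u'

open CategoryTheory CategoryTheory.Limits Abelian HomologicalComplex

namespace Groth.Agent.SitePAdj

variable {D : Type u'} [Category.{v'} D] [Abelian D] [HasExt.{w'} D] [HasDerivedCategory.{w₁} D]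
  {A : Type u} [Category.{v} A] [Abelian A] [EnoughInjectives A] [HasDerivedCategory.{w} A]
  {R : A ⥤ D} {L : D ⥤ A} [R.Additive] [L.Additive] (adj : L ⊣ R)
  {RF : DerivedCategory A ⥤ DerivedCategory D}
  (α : R.mapHomotopyCategory (ComplexShape.up ℤ) ⋙ DerivedCategory.Qh ⟶ DerivedCategory.Qh ⋙ RF)

local notation "RC" => R.mapHomologicalComplex (ComplexShape.up ℤ)
local notation "SF" => DerivedCategory.singleFunctor
local notation "σ" => HomologicalComplex.single

/-- The derived unit on complexes. -/
noncomputable def αQ :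
    RC ⋙ DerivedCategory.Q ⟶ DerivedCategory.Q ⋙ RF :=
  Functor.whiskerLeft _ (DerivedCategory.quotientCompQhIso D).inv ≫ (Functor.associator _ _ _).inv ≫
    Functor.whiskerRight (R.mapHomotopyCategoryFactors _).inv _ ≫
    Functor.whiskerLeft (HomotopyCategory.quotient A _) α ≫ (Functor.associator _ _ _).inv ≫
    Functor.whiskerRight (DerivedCategory.quotientCompQhIso A).hom RF

theorem isIso_αQ (h : KInjLib.EnoughKInj A)
    [RF.IsRightDerivedFunctor α (HomotopyCategory.quasiIso A (ComplexShape.up ℤ))]
    (I : CochainComplex A ℤ) [I.IsKInjective] : IsIso ((αQ α).app I) := by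
  have h1 : IsIso (α.app ((HomotopyCategory.quotient A _).obj I)) := KInjLib.isIso_app_of_isKInjective h α I
  simp only [αQ, NatTrans.comp_app, Functor.whiskerLeft_app, Functor.whiskerRight_app,
    Functor.associator_inv_app]
  infer_instance

/-- The class of the unit. -/
noncomputable def unitClass (X : D) (m : ℤ) : (SF D m).obj X ⟶ RF.obj ((SF A m).obj (L.obj X)) :=
  DerivedCategory.Q.map ((σ D (ComplexShape.up ℤ) m).map (adj.unit.app X) ≫
    (singleMapHomologicalComplex R (ComplexShape.up ℤ) m).inv.app (L.obj X)) ≫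
    (αQ α).app ((σ A (ComplexShape.up ℤ) m).obj (L.obj X))

/-- Transposition of classes. -/
noncomputable def transpose {X : D} {m : ℤ} {K : DerivedCategory A} (g : (SF A m).obj (L.obj X) ⟶ K) :
    (SF D m).obj X ⟶ RF.obj K :=
  unitClass adj α X m ≫ RF.map g

theorem transpose_comp {X : D} {m : ℤ} {K K' : DerivedCategory A} (g : (SF A m).obj (L.obj X) ⟶ K)
    (φ : K ⟶ K') : transpose adj α (g ≫ φ) = transpose adj α g ≫ RF.map φ := by
  simp [transpose]

theorem transpose_Q_map {X : D} {m : ℤ} {I : CochainComplex A ℤ}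
    (k : (σ A (ComplexShape.up ℤ) m).obj (L.obj X) ⟶ I) :
    transpose adj α (K := DerivedCategory.Q.obj I) (DerivedCategory.Q.map k) =
      DerivedCategory.Q.map ((σ D (ComplexShape.up ℤ) m).map (adj.unit.app X) ≫
        (singleMapHomologicalComplex R (ComplexShape.up ℤ) m).inv.app (L.obj X) ≫ (RC).map k) ≫
      (αQ α).app I := by
  change (_ ≫ _) ≫ (DerivedCategory.Q ⋙ RF).map k = _
  rw [Category.assoc, ← NatTrans.naturality, Functor.comp_map, ← Category.assoc, ← Functor.map_comp,
    Category.assoc]

theorem homEquiv_single {X : D} {m : ℤ} {I : CochainComplex A ℤ}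
    (k : (σ A (ComplexShape.up ℤ) m).obj (L.obj X) ⟶ I) :
    (KInjLib.adjComplexes adj (ComplexShape.up ℤ)).homEquiv _ _
      ((singleMapHomologicalComplex L (ComplexShape.up ℤ) m).hom.app X ≫ k) =
      (σ D (ComplexShape.up ℤ) m).map (adj.unit.app X) ≫
        (singleMapHomologicalComplex R (ComplexShape.up ℤ) m).inv.app (L.obj X) ≫ (RC).map k := by
  refine from_single_hom_ext ?_
  rw [Adjunction.homEquiv_unit]
  simp [KInjLib.adjComplexes, single_map_f_self, singleMapHomologicalComplex_hom_app_self,
    singleMapHomologicalComplex_inv_app_self]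

theorem isStrictPCAll_single {X : D} (hX : Adapted.{w'} R X) (m : ℤ) :
    _root_.PCoh.IsStrictPCAll (Adapted.{w'} R) ((σ D (ComplexShape.up ℤ) m).obj X) := by
  refine ⟨⟨m, fun i hi => isZero_single_obj_X (ComplexShape.up ℤ) m X i (by omega)⟩, fun i => ?_⟩
  by_cases hi : i = m
  · subst hi
    exact ObjectProperty.prop_of_iso _ (singleObjXSelf (ComplexShape.up ℤ) i X).symm hX
  · exact adapted_of_isZero R (isZero_single_obj_X (ComplexShape.up ℤ) m X i hi)

variable [RF.IsRightDerivedFunctor α (HomotopyCategory.quasiIso A (ComplexShape.up ℤ))]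
  (hk : KInjLib.EnoughKInj A) (hql : _root_.PCoh.IsQuasiLiftable (Adapted.{w'} R : ObjectProperty D))

include hk hql in
theorem bijective_transpose {X : D} (hX : Adapted.{w'} R X) (m : ℤ) (K : DerivedCategory A) :
    Function.Bijective (transpose adj α : ((SF A m).obj (L.obj X) ⟶ K) → _) := by
  suffices key : ∀ (I : CochainComplex A ℤ), I.IsKInjective →
      Function.Bijective (transpose adj α : ((SF A m).obj (L.obj X) ⟶ DerivedCategory.Q.obj I) → _) by
    obtain ⟨I, f, hI, hf⟩ := hk (DerivedCategory.Q.objPreimage K)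
    haveI := (DerivedCategory.isIso_Q_map_iff_quasiIso A f).2 hf
    let e : K ≅ DerivedCategory.Q.obj I :=
      (DerivedCategory.Q.objObjPreimageIso K).symm ≪≫ asIso (DerivedCategory.Q.map f)
    have he : (transpose adj α : ((SF A m).obj (L.obj X) ⟶ K) → _) =
        (fun x => x ≫ RF.map e.inv) ∘ (transpose adj α) ∘ (fun g => g ≫ e.hom) := by
      funext g
      simp [transpose_comp, ← Functor.map_comp]
    rw [he]
    exact ((Iso.homToEquiv (RF.mapIso e.symm)).bijective).comp ((key I hI).comp (Iso.homToEquiv e).bijective)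
  intro I hI
  haveI := isIso_αQ α hk I
  haveI hiso : IsIso ((αQ α).app I) := inferInstance
  refine ⟨?_, fun f => ?_⟩
  · suffices h : ∀ k : (σ A (ComplexShape.up ℤ) m).obj (L.obj X) ⟶ I,
        transpose adj α (K := DerivedCategory.Q.obj I) (DerivedCategory.Q.map k) = 0 →
          DerivedCategory.Q.map k = 0 by
      intro g g' hg
      obtain ⟨k, rfl⟩ := KInjLib.exists_map_eq g
      obtain ⟨k', rfl⟩ := KInjLib.exists_map_eq g'
      have hg' := hg
      simp only [transpose_Q_map, cancel_mono] at hg'
      refine sub_eq_zero.1 ((Functor.map_sub _).symm.trans (h (k - k') ?_))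
      exact (transpose_Q_map adj α (k - k')).trans (by
        rw [Functor.map_sub, Preadditive.comp_sub, Preadditive.comp_sub, Functor.map_sub, hg', sub_self,
          zero_comp])
    intro k hk'
    rw [transpose_Q_map, ← zero_comp (f := (αQ α).app I), cancel_mono] at hk'
    have h0 := Q_map_adj_eq_zero adj hql (isStrictPCAll_single hX m) I _ hk'
    rw [← homEquiv_single, Equiv.symm_apply_apply, Functor.map_comp] at h0
    exact (cancel_epi (DerivedCategory.Q.map
      ((singleMapHomologicalComplex L (ComplexShape.up ℤ) m).hom.app X))).1 (h0.trans comp_zero.symm)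
  · obtain ⟨h, hh⟩ := exists_Q_map_eq adj hql (isStrictPCAll_single hX m) I
      (show DerivedCategory.Q.obj ((σ D (ComplexShape.up ℤ) m).obj X) ⟶ _ from f ≫ inv ((αQ α).app I))
    let k := (singleMapHomologicalComplex L (ComplexShape.up ℤ) m).inv.app X ≫
      ((KInjLib.adjComplexes adj (ComplexShape.up ℤ)).homEquiv _ I).symm h
    refine ⟨DerivedCategory.Q.map k, ?_⟩
    rw [transpose_Q_map, ← homEquiv_single]
    simp only [k, Iso.hom_inv_id_app_assoc]
    erw [Equiv.apply_symm_apply, hh, Category.assoc, IsIso.inv_hom_id, Category.comp_id]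

end Groth.Agent.SitePAdj
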