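import Groth.Agent.Lib.PCoh.Infinite
import Groth.Agent.Lib.PCoh.Perfect
import Groth.Agent.Lib.KInj.Derived
import Groth.Agent.Lib.KInj.DerivedAdj
import Mathlib.Algebra.Homology.DerivedCategory.Ext.EnoughInjectives
import Mathlib.Algebra.Homology.DerivedCategory.Ext.ExactSequences
import Mathlib.Algebra.Homology.DerivedCategory.Fractions

/-! Objects adapted to a left adjoint, and classes into images of K-injective complexes. -/

set_option autoImplicit false
set_option linter.style.haveILetI false
set_option linter.unusedSectionVars false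
set_option backward.isDefEq.respectTransparency false
set_option backward.isDefEq.respectTransparency.types false

universe w w₁ w' v v' u u' t

open CategoryTheory CategoryTheory.Limits Abelian

namespace Groth.Agent.SitePAdj

section Exactness

variable {A : Type u} [Category.{v} A] [Abelian A] [EnoughInjectives A]

theorem exact_of_hom_injective (S : ShortComplex A)
    (h : ∀ (J : A), Injective J → ∀ φ : S.X₂ ⟶ J, S.f ≫ φ = 0 → ∃ ψ : S.X₃ ⟶ J, S.g ≫ ψ = φ) :
    S.Exact := by
  rw [S.exact_iff_mono_cokernel_desc]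
  obtain ⟨ψ, hψ⟩ := h _ inferInstance (cokernel.π S.f ≫ Injective.ι _)
    (by rw [cokernel.condition_assoc, zero_comp])
  have : cokernel.desc S.f S.g S.zero ≫ ψ = Injective.ι (cokernel S.f) := by
    rw [← cancel_epi (cokernel.π S.f), cokernel.π_desc_assoc, hψ]
  haveI : Mono (cokernel.desc S.f S.g S.zero ≫ ψ) := this ▸ inferInstance
  exact mono_of_mono _ ψ

end Exactness

variable {D : Type u'} [Category.{v'} D] [Abelian D] [HasExt.{w'} D]
  {A : Type u} [Category.{v} A] [Abelian A] (R : A ⥤ D)

/-- Objects without higher extensions into images of injectives. -/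
def Adapted : ObjectProperty D :=
  fun X => ∀ J : A, Injective J → ∀ k, Subsingleton (Ext.{w'} X (R.obj J) (k + 1))

instance : (Adapted R : ObjectProperty D).IsClosedUnderIsomorphisms where
  of_iso {X Y} e hX J hJ k :=
    subsingleton_of_forall_eq 0 fun x => by
      haveI := hX J hJ k
      have : (Ext.mk₀ e.hom).comp x (zero_add (k + 1)) = 0 := Subsingleton.elim _ _
      calc x = (Ext.mk₀ e.inv).comp ((Ext.mk₀ e.hom).comp x (zero_add (k + 1))) (zero_add (k + 1)) := by simp
        _ = 0 := by rw [this, Ext.comp_zero]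

theorem adapted_of_isZero {X : D} (hX : IsZero X) : Adapted R X := fun J _ k =>
  subsingleton_of_forall_eq 0 fun x => by
    calc x = (Ext.mk₀ (𝟙 X)).comp x (zero_add (k + 1)) := (Ext.mk₀_id_comp x).symm
      _ = 0 := by rw [hX.eq_of_src (𝟙 X) 0, Ext.mk₀_zero, Ext.zero_comp]

instance : (Adapted R : ObjectProperty D).ContainsZero where
  exists_zero := ⟨_, isZero_zero D, adapted_of_isZero R (isZero_zero D)⟩

theorem adapted_ext {S : ShortComplex D} (hS : S.ShortExact) (h₁ : Adapted R S.X₁) (h₃ : Adapted R S.X₃) :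
    Adapted R S.X₂ := fun J hJ k => subsingleton_of_forall_eq 0 fun x => by
  obtain ⟨y, rfl⟩ := Ext.contravariant_sequence_exact₂ hS _ x ((h₁ J hJ k).elim _ _)
  have : y = 0 := (h₃ J hJ k).elim _ _
  rw [this, Ext.comp_zero]

theorem adapted_kernel {S : ShortComplex D} (hS : S.ShortExact) (h₂ : Adapted R S.X₂) (h₃ : Adapted R S.X₃) :
    Adapted R S.X₁ := fun J hJ k => subsingleton_of_forall_eq 0 fun x => by
  obtain ⟨y, rfl⟩ := Ext.contravariant_sequence_exact₁ hS _ x (n₁ := k + 1 + 1) (add_comm 1 _)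
    ((h₃ J hJ (k + 1)).elim _ _)
  have : y = 0 := (h₂ J hJ k).elim _ _
  rw [this, Ext.comp_zero]

theorem adapted_prod (X Y : D) (hX : Adapted R X) (hY : Adapted R Y) : Adapted R (X ⨯ Y) :=
  ObjectProperty.prop_of_iso _ (biprod.isoProd X Y)
    (adapted_ext R (S := ShortComplex.mk (biprod.inl : X ⟶ X ⊞ Y) biprod.snd biprod.inl_snd)
      (ShortComplex.Splitting.ofHasBinaryBiproduct X Y).shortExact hX hY)

theorem subsingleton_ext_sigma [EnoughInjectives D] {ι : Type t} (X : ι → D) [HasCoproduct X] :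
    ∀ (k : ℕ) (M : D), (∀ i j, Subsingleton (Ext.{w'} (X i) M (j + 1))) →
      Subsingleton (Ext.{w'} (∐ X) M (k + 1))
  | k, M, h => by
    let S := ShortComplex.mk (Injective.ι M) (cokernel.π _) (cokernel.condition _)
    have hS : S.ShortExact :=
      ShortComplex.ShortExact.mk' (ShortComplex.exact_of_g_is_cokernel _ (cokernelIsCokernel _))
        inferInstance inferInstance
    refine subsingleton_of_forall_eq 0 fun x => ?_
    obtain ⟨y, rfl⟩ := Ext.covariant_sequence_exact₁ (∐ X) hS x
      (Ext.eq_zero_of_injective (I := Injective.under M) _) (n₀ := k) rfl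
    match k with
    | 0 =>
      obtain ⟨f, rfl⟩ := (Ext.mk₀_bijective _ _).2 y
      have hl : ∀ i, ∃ g : X i ⟶ S.X₂, g ≫ S.g = Sigma.ι X i ≫ f := fun i => by
        obtain ⟨z, hz⟩ := Ext.covariant_sequence_exact₃ (X i) hS (Ext.mk₀ (Sigma.ι X i ≫ f)) rfl
          ((h i 0).elim _ _)
        obtain ⟨g, rfl⟩ := (Ext.mk₀_bijective _ _).2 z
        rw [Ext.mk₀_comp_mk₀] at hz
        exact ⟨g, (Ext.mk₀_bijective _ _).1 hz⟩
      choose g hg using hl
      rw [show f = Sigma.desc g ≫ S.g from Sigma.hom_ext _ _ fun i => by simp [hg],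
        ← Ext.mk₀_comp_mk₀, Ext.comp_assoc_of_second_deg_zero, hS.comp_extClass, Ext.comp_zero]
    | k + 1 =>
      have : Subsingleton (Ext.{w'} (∐ X) S.X₃ (k + 1)) := by
        refine subsingleton_ext_sigma X k S.X₃ fun i j => subsingleton_of_forall_eq 0 fun z => ?_
        obtain ⟨z', rfl⟩ := Ext.covariant_sequence_exact₃ (X i) hS z (n₁ := j + 1 + 1) rfl
          ((h i (j + 1)).elim _ _)
        rw [Ext.eq_zero_of_injective (I := Injective.under M) z', Ext.zero_comp]
      rw [Subsingleton.elim y 0, Ext.zero_comp]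

theorem adapted_sigma [EnoughInjectives D] {ι : Type t} (X : ι → D) [HasCoproduct X]
    (h : ∀ i, Adapted R (X i)) : Adapted R (∐ X) :=
  fun J hJ k => subsingleton_ext_sigma X k _ fun i => h i J hJ

omit [HasExt.{w'} D] in
/-- `0 → Z^i → K^i → Z^{i+1} → 0`. -/
theorem cyclesSeq_shortExact {K : CochainComplex D ℤ} (hK : K.Acyclic) (i : ℤ) :
    (ShortComplex.mk (kernel.ι (K.d i (i + 1)))
      (kernel.lift (K.d (i + 1) (i + 1 + 1)) (K.d i (i + 1)) (K.d_comp_d _ _ _))
      (by rw [← cancel_mono (kernel.ι (K.d (i + 1) (i + 1 + 1))), Category.assoc, kernel.lift_ι,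
        kernel.condition, zero_comp])).ShortExact := by
  refine { exact := ShortComplex.exact_of_f_is_kernel _ ?_, mono_f := inferInstanceAs (Mono (kernel.ι _)),
           epi_g := (ShortComplex.exact_iff_epi_kernel_lift _).1
             ((HomologicalComplex.exactAt_iff' K i (i + 1) (i + 1 + 1) (by simp) (by simp)).1 (hK (i + 1))) }
  exact isKernelOfComp _ _ (kernelIsKernel (K.d i (i + 1))) _ (kernel.lift_ι _ _ _)

theorem adapted_cycles {K : CochainComplex D ℤ} (hK : K.Acyclic) (b : ℤ)
    (hb : ∀ i, b < i → IsZero (K.X i)) (hP : ∀ i, Adapted R (K.X i)) (i : ℤ) :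
    Adapted R (kernel (K.d i (i + 1))) := by
  suffices ∀ (k : ℕ) (i : ℤ), b < i + k → Adapted R (kernel (K.d i (i + 1))) from
    this (b + 1 - i).toNat i (by omega)
  intro k
  induction k with
  | zero =>
    intro i hi
    exact adapted_of_isZero R (IsZero.of_mono (kernel.ι _) (hb i (by omega)))
  | succ k ih =>
    intro i hi
    exact adapted_kernel R (cyclesSeq_shortExact hK i) (hP i) (ih (i + 1) (by omega))

theorem isQuasiStableUnderKernels_adapted : _root_.PCoh.IsQuasiStableUnderKernels (Adapted R) := by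
  intro K hK ⟨n, hn⟩ hP
  suffices key : ∀ (m i : ℕ), n < i + m → 1 ≤ i → Adapted R (kernel (K.d i (i + 1))) by
    haveI : Mono (K.d 0 1) :=
      (ShortComplex.exact_iff_mono _ (K.shape 0 0 (by simp))).1
        ((K.exactAt_iff' 0 0 1 (by simp) (by simp)).1 (hK 0))
    have hex : (K.sc' 0 1 2).Exact := (K.exactAt_iff' 0 1 2 (by simp) (by simp)).1 (hK 1)
    haveI : IsIso (kernel.lift (K.d 1 2) (K.d 0 1) (K.d_comp_d _ _ _)) := by
      haveI : Mono (kernel.lift (K.d 1 2) (K.d 0 1) (K.d_comp_d _ _ _)) :=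
        mono_of_mono_fac (kernel.lift_ι _ _ _)
      haveI : Epi (kernel.lift (K.d 1 2) (K.d 0 1) (K.d_comp_d _ _ _)) :=
        (ShortComplex.exact_iff_epi_kernel_lift _).1 hex
      exact isIso_of_mono_of_epi _
    exact ⟨_, 𝟙 _, ObjectProperty.prop_of_iso _
      (asIso (kernel.lift (K.d 1 2) (K.d 0 1) (K.d_comp_d _ _ _))).symm (key n 1 (by omega) le_rfl),
      inferInstance⟩
  intro m
  induction m with
  | zero => exact fun i hi _ => adapted_of_isZero R (IsZero.of_mono (kernel.ι _) (hn i (by omega)))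
  | succ m ih =>
    intro i hi hi1
    have hS : (ShortComplex.mk (kernel.ι (K.d i (i + 1)))
        (kernel.lift (K.d (i + 1) (i + 1 + 1)) (K.d i (i + 1)) (K.d_comp_d _ _ _))
        (by rw [← cancel_mono (kernel.ι (K.d (i + 1) (i + 1 + 1))), Category.assoc, kernel.lift_ι,
          kernel.condition, zero_comp])).ShortExact := by
      refine { exact := ShortComplex.exact_of_f_is_kernel _ ?_, mono_f := inferInstanceAs (Mono (kernel.ι _)),
               epi_g := (ShortComplex.exact_iff_epi_kernel_lift _).1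
                 ((K.exactAt_iff' i (i + 1) (i + 1 + 1) (by simp) (by simp)).1 (hK (i + 1))) }
      exact isKernelOfComp _ _ (kernelIsKernel (K.d i (i + 1))) _ (kernel.lift_ι _ _ _)
    exact adapted_kernel R hS (hP i hi1) (ih (i + 1) (by omega) (by omega))

end Groth.Agent.SitePAdj
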