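import Groth.Agent.Lib.SitePAdj16.Adapted
import Mathlib.Algebra.Homology.HomotopyCategory.KInjective
import Mathlib.CategoryTheory.Adjunction.Additive

/-! Classes over an adapted object into the image of a K-injective complex are homotopy classes. -/

set_option autoImplicit false
set_option linter.style.haveILetI false
set_option linter.unusedSectionVars false
set_option backward.isDefEq.respectTransparency false
set_option backward.isDefEq.respectTransparency.types false

universe w w₁ w' v v' u u' t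

open CategoryTheory CategoryTheory.Limits Abelian HomologicalComplex

namespace Groth.Agent.SitePAdj

variable {D : Type u'} [Category.{v'} D] [Abelian D] [HasExt.{w'} D]
  {A : Type u} [Category.{v} A] [Abelian A] [EnoughInjectives A] {R : A ⥤ D} {L : D ⥤ A}
  [R.Additive] [L.Additive] (adj : L ⊣ R)

local notation "LC" => L.mapHomologicalComplex (ComplexShape.up ℤ)
local notation "RC" => R.mapHomologicalComplex (ComplexShape.up ℤ)

include adj in
theorem acyclic_map {K : CochainComplex D ℤ} (hK : K.Acyclic) (b : ℤ) (hb : ∀ i, b < i → IsZero (K.X i))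
    (hP : ∀ i, Adapted.{w'} R (K.X i)) : ((LC).obj K).Acyclic := fun j => by
  obtain ⟨i, rfl⟩ : ∃ i, j = i + 1 := ⟨j - 1, by omega⟩
  rw [exactAt_iff' _ i (i + 1) (i + 1 + 1) (by simp) (by simp)]
  refine exact_of_hom_injective _ fun J hJ φ hφ => ?_
  change L.map (K.d i (i + 1)) ≫ φ = 0 at hφ
  let ψ : K.X (i + 1) ⟶ R.obj J := adj.homEquiv _ _ φ
  have hψ : K.d i (i + 1) ≫ ψ = 0 := by
    simp only [ψ]
    rw [← adj.homEquiv_naturality_left, hφ, Adjunction.homEquiv_unit, Functor.map_zero, comp_zero]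
  haveI := (cyclesSeq_shortExact hK i).epi_g
  have h1 : kernel.ι (K.d (i + 1) (i + 1 + 1)) ≫ ψ = 0 := by
    rw [← cancel_epi (kernel.lift (K.d (i + 1) (i + 1 + 1)) (K.d i (i + 1)) (K.d_comp_d _ _ _)),
      kernel.lift_ι_assoc, hψ, comp_zero]
  have hS₁ := cyclesSeq_shortExact hK (i + 1)
  haveI := hS₁.epi_g
  let ψ' := hS₁.exact.desc ψ h1
  obtain ⟨y, hy⟩ := Ext.contravariant_sequence_exact₁ (cyclesSeq_shortExact hK (i + 1 + 1)) (R.obj J)
    (Ext.mk₀ ψ') (n₁ := 1) rfl ((adapted_cycles R hK b hb hP (i + 1 + 1 + 1) J hJ 0).elim _ _)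
  obtain ⟨y', rfl⟩ := (Ext.mk₀_bijective _ _).2 y
  rw [Ext.mk₀_comp_mk₀] at hy
  have hy' := (Ext.mk₀_bijective _ _).1 hy
  refine ⟨(adj.homEquiv _ _).symm y', (adj.homEquiv _ _).injective ?_⟩
  change adj.homEquiv _ _ (L.map (K.d (i + 1) (i + 1 + 1)) ≫ _) = ψ
  rw [adj.homEquiv_naturality_left, Equiv.apply_symm_apply, ← hS₁.exact.g_desc ψ h1,
    show hS₁.exact.desc ψ h1 = ψ' from rfl, ← hy']
  exact (kernel.lift_ι_assoc _ _ _ _).symm

include adj in
theorem quasiIso_map {E F : CochainComplex D ℤ} (s : E ⟶ F) [QuasiIso s]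
    (hE : _root_.PCoh.IsStrictPCAll (Adapted.{w'} R) E) (hF : _root_.PCoh.IsStrictPCAll (Adapted.{w'} R) F) :
    QuasiIso ((LC).map s) := by
  obtain ⟨b, hb⟩ := hE.1
  obtain ⟨c, hc⟩ := hF.1
  have hN : ((LC).obj (CochainComplex.mappingCone s)).Acyclic := by
    refine acyclic_map adj (fun i => PCoh.exactAt_mappingCone s i) (max b c)
      (fun i hi => (CochainComplex.mappingCone.isZero_X_iff s i).2 ⟨hb _ (by omega), hc _ (by omega)⟩) fun i => ?_
    exact ObjectProperty.prop_of_iso _
      (HomologicalComplex.homotopyCofiber.XIsoBiprod s i (i + 1) rfl ≪≫ biprod.isoProd _ _).symm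
      (adapted_prod R _ _ (hE.2 (i + 1)) (hF.2 i))
  refine PCoh.quasiIso_of_forall_nIso fun k i _ => ?_
  exact (hN i).of_iso (CochainComplex.mappingCone.mapHomologicalComplexIso s L)

variable [HasDerivedCategory.{w} A] [HasDerivedCategory.{w₁} D]
  (hql : _root_.PCoh.IsQuasiLiftable (Adapted.{w'} R : ObjectProperty D))

include adj hql in
/-- A quasi-isomorphism onto a complex of adapted objects is refined by one that `L` preserves. -/
theorem exists_refinement {E G : CochainComplex D ℤ} (hE : _root_.PCoh.IsStrictPCAll (Adapted.{w'} R) E)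
    (s : G ⟶ E) [QuasiIso s] :
    ∃ (E' : CochainComplex D ℤ) (u : E' ⟶ G), QuasiIso u ∧ QuasiIso ((LC).map (u ≫ s)) := by
  obtain ⟨E', u, hE', hu⟩ := PCoh.exists_strictAll_quasiIso_to (adapted_prod R)
    (isQuasiStableUnderKernels_adapted R) hql hE s
  exact ⟨E', u, hu, quasiIso_map adj (u ≫ s) hE' hE⟩

include adj hql in
/-- A class into `R I` is the class of a map of complexes. -/
theorem exists_Q_map_eq {E : CochainComplex D ℤ} (hE : _root_.PCoh.IsStrictPCAll (Adapted.{w'} R) E)
    (I : CochainComplex A ℤ) [I.IsKInjective]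
    (f : DerivedCategory.Q.obj E ⟶ DerivedCategory.Q.obj ((RC).obj I)) :
    ∃ h : E ⟶ (RC).obj I, DerivedCategory.Q.map h = f := by
  obtain ⟨G, s, hs, g₀, rfl⟩ := DerivedCategory.right_fac f
  haveI : QuasiIso s := (DerivedCategory.isIso_Q_map_iff_quasiIso _ s).1 hs
  obtain ⟨E', u, hu, hus⟩ := exists_refinement adj hql hE s
  let g := u ≫ g₀
  let g' := ((KInjLib.adjComplexes adj (ComplexShape.up ℤ)).homEquiv E' I).symm g
  haveI := (DerivedCategory.isIso_Q_map_iff_quasiIso A ((LC).map (u ≫ s))).2 hus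
  obtain ⟨h', hh'⟩ := KInjLib.exists_map_eq (inv (DerivedCategory.Q.map ((LC).map (u ≫ s))) ≫ DerivedCategory.Q.map g')
  obtain ⟨H⟩ := (KInjLib.map_eq_iff g' ((LC).map (u ≫ s) ≫ h')).1 (by
    rw [Functor.map_comp, hh', IsIso.hom_inv_id_assoc])
  let h := (KInjLib.adjComplexes adj (ComplexShape.up ℤ)).homEquiv E I h'
  refine ⟨h, ?_⟩
  have e1 : g = (KInjLib.adjComplexes adj (ComplexShape.up ℤ)).unit.app E' ≫ (RC).map g' := by
    refine Eq.trans ?_ (Adjunction.homEquiv_unit _ _ _ _)
    exact (Equiv.apply_symm_apply _ g).symm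
  have e2 : (u ≫ s) ≫ h =
      (KInjLib.adjComplexes adj (ComplexShape.up ℤ)).unit.app E' ≫ (RC).map ((LC).map (u ≫ s) ≫ h') := by
    exact ((KInjLib.adjComplexes adj _).homEquiv_naturality_left (u ≫ s) h').symm.trans
      (Adjunction.homEquiv_unit _ _ _ _)
  have key : DerivedCategory.Q.map g = DerivedCategory.Q.map ((u ≫ s) ≫ h) := by
    rw [e1, e2, Functor.map_comp, Functor.map_comp]
    congr 1
    exact DerivedCategory.Q_map_eq_of_homotopy D (R.mapHomotopy H)
  haveI : IsIso (DerivedCategory.Q.map u) := (DerivedCategory.isIso_Q_map_iff_quasiIso _ u).2 hu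
  simp only [g, Functor.map_comp, Category.assoc, cancel_epi] at key
  rw [key, IsIso.inv_hom_id_assoc]

include adj hql in
/-- A map into `R I` with zero class has null adjoint class. -/
theorem Q_map_adj_eq_zero {E : CochainComplex D ℤ} (hE : _root_.PCoh.IsStrictPCAll (Adapted.{w'} R) E)
    (I : CochainComplex A ℤ) (h : E ⟶ (RC).obj I) (h0 : DerivedCategory.Q.map h = 0) :
    DerivedCategory.Q.map (((KInjLib.adjComplexes adj (ComplexShape.up ℤ)).homEquiv E I).symm h) = 0 := by
  have h1 : DerivedCategory.Qh.map ((HomotopyCategory.quotient _ _).map h) =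
      DerivedCategory.Qh.map ((HomotopyCategory.quotient _ _).map (0 : E ⟶ (RC).obj I)) := by
    have := (DerivedCategory.quotientCompQhIso D).hom.naturality h
    rw [h0, comp_zero] at this
    rw [Functor.map_zero, Functor.map_zero]
    exact (cancel_mono ((DerivedCategory.quotientCompQhIso D).hom.app _)).1 (this.trans zero_comp.symm)
  obtain ⟨Z, s₀, hs₀, hs₀'⟩ := (MorphismProperty.map_eq_iff_precomp DerivedCategory.Qh
    (HomotopyCategory.quasiIso D (ComplexShape.up ℤ)) _ _).1 h1
  obtain ⟨G, rfl⟩ := HomotopyCategory.quotient_obj_surjective Z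
  obtain ⟨s, rfl⟩ := (HomotopyCategory.quotient _ _).map_surjective s₀
  haveI : QuasiIso s := (HomotopyCategory.quotient_map_mem_quasiIso_iff s).1 hs₀
  obtain ⟨E', u, hu, hus⟩ := exists_refinement adj hql hE s
  rw [← Functor.map_comp, ← Functor.map_comp] at hs₀'
  let H := (HomotopyCategory.homotopyOfEq _ _ hs₀').compLeft u
  let H' := (L.mapHomotopy H).compRight ((KInjLib.adjComplexes adj (ComplexShape.up ℤ)).counit.app I)
  have := (DerivedCategory.isIso_Q_map_iff_quasiIso A ((LC).map (u ≫ s))).2 hus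
  rw [← cancel_epi (DerivedCategory.Q.map ((LC).map (u ≫ s))), comp_zero, ← Functor.map_comp,
    Adjunction.homEquiv_counit, ← Category.assoc, ← Functor.map_comp, Category.assoc]
  refine Eq.trans ?_ (DerivedCategory.Q.map_zero _ _)
  refine DerivedCategory.Q_map_eq_of_homotopy A ?_
  exact H'.trans (Homotopy.ofEq (by simp))

end Groth.Agent.SitePAdj
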